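import Cfsg.Agent.H964.Rg.Slo

/-!
# S3691, section 6: minus type, the memberships (helper173, for helper964)
-/

set_option autoImplicit false
set_option linter.unusedSectionVars false
set_option linter.unusedVariables false

namespace Cfsg.Agent.H173.Rg

open Module QuadraticMap Cfsg Cfsg.Geo Cfsg.Agent.LieClassical.OrthCore Cfsg.Agent.LieClassical.OrthTrans
  Cfsg.Agent.H454.Reg Cfsg.Agent.H884.El Cfsg.Agent.H955 Cfsg.Agent.H954.TSing Cfsg.Agent.H193.Dg Cfsg.Agent.H851.Dg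
  Cfsg.Agent.H449.Reg Cfsg.Agent.H964.Rg
open Cfsg.Agent.H951 (fx cm Inv)
open Cfsg.Agent.H278.Cov (Red Ext Num)
open scoped MatrixGroups Matrix

universe u v

/-! ### numbers -/

theorem le_of_dvd_two_mul {m s : ℕ} (hm : 1 ≤ m) (hs : s.Prime) (h : s ∣ 2 * m) : s ≤ m ∨ s = 2 := by
  rcases (Nat.Prime.dvd_mul hs).1 h with h1 | h1
  · right
    exact (Nat.prime_dvd_prime_iff_eq hs Nat.prime_two).1 h1
  · left
    exact Nat.le_of_dvd (by omega) h1

/-- a prime with odd order `e` is at least `2 e + 1` -/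
theorem two_mul_lt {q e r : ℕ} (h : PP q e r) (he : 3 ≤ e) (ho : Odd e) : 2 * e < r := by
  have h1 := h.two_mul_dvd he ho
  have h2 := h.prime.two_le
  have h3 := Nat.le_of_dvd (by omega) h1
  omega

section abs

variable {F : Type v} [Field F] [Fintype F] {V : Type v} [AddCommGroup V] [Module F V] [FiniteDimensional F V]
  {Q : QuadraticForm F V} {x : Module.End F V} {r e : ℕ}

/-- minus type, dimension at most `4 e` -/
theorem odd_case' (h : Iso Q x r) (hQ : Nondeg Q) (hx1 : x ≠ 1) (hr : PP (Nat.card F) e r) (he : Odd e)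
    (hn : finrank F V ≤ 4 * e) (hP : ¬ IsPlus Q) : finrank F (cm x) = 2 * e ∧
      ∃ W ≤ cm x, Inv x W ∧ TS Q W ∧ finrank F W = e := by
  have := Fact.mk h.prime
  have ho : Odd (orderOf (Fintype.card F : ZMod r)) := by rw [ord_eq hr]; exact he
  obtain ⟨A, hA, hP1, -⟩ := exists_inv_ts_of_odd h.two_lt h.ne0 ho hQ h.iso h.pow
  rw [ord_eq hr] at hA
  have h2 : finrank F (cm x) ≤ finrank F V := Submodule.finrank_le _
  have h3 : finrank F (cm x) ≠ 0 := fun h0 => cm_ne_bot hx1 (Submodule.finrank_eq_zero.1 h0)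
  have hpos : 0 < e := by
    rcases Nat.eq_zero_or_pos e with h0 | h0
    · rw [h0] at he; exact absurd he (by decide)
    · exact h0
  have hA1 : A = 1 := by
    have h5 : A ≠ 0 := by rintro rfl; omega
    have h4 : A < 2 := by
      by_contra hcon
      push Not at hcon
      have h6 := Nat.mul_le_mul_left e hcon
      have h7 : finrank F (cm x) = finrank F V := by omega
      have h8 : cm x = ⊤ := Submodule.eq_top_of_finrank_eq h7
      apply hP
      obtain ⟨U, hU, hd⟩ := hP1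
      refine ⟨U.map (cm x).subtype, ?_, ?_⟩
      · rintro _ ⟨u, hu, rfl⟩
        have h9 := hU u hu
        rw [res_apply] at h9
        exact h9
      · rw [Submodule.finrank_map_subtype_eq, hd, h7]
    omega
  rw [hA1, mul_one] at hA
  refine ⟨hA, ?_⟩
  obtain ⟨W, hWU, hW, hWs, hd⟩ := exists_ts_half h.iso this h.two_lt h.ne0 h.pow H951.inv_cm
    (nondeg_cm hQ h.iso h.ne0 h.pow) (by
      rw [inf_comm]; exact (H951.isCompl_fx_cm h.ne0 h.pow).inf_eq_bot) ho
  exact ⟨W, hWU, hW, hWs, by omega⟩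

end abs

section mat

variable {ι : Type} [Fintype ι] [DecidableEq ι] {F : Type v} [Field F] [Fintype F] {Q : QuadraticForm F (ι → F)}
  {H : Subgroup (GL ι F)} {r e : ℕ}

/-- the fixed space of an element of even order `e`, `n < 2 e`, is a space over a normalised field -/
theorem ext_even (hQ : Nondeg Q) (hH : H ≤ Cfsg.isometryGroup F (⇑Q)) (hr : PP (Nat.card F) e r)
    (he : Even e) (he3 : 2 ≤ e) (hn : Fintype.card ι < 2 * e) (hdvd : r ∣ Nat.card H) {s : ℕ} (hs : s.Prime)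
    {K : Subalgebra F (Matrix ι ι F)} (hK : IsFieldSubalgebra s K) (hHK : H ≤ subalgebraNormalizer K) :
    r = s ∨ s ∣ Fintype.card ι - e := by
  obtain ⟨g, hgH, hiso, hgr, hg1⟩ := exists_elt hH hr (by omega) hdvd
  by_cases hrs : r = s
  · exact Or.inl hrs
  right
  have hfin : finrank F (ι → F) = Fintype.card ι := Module.finrank_fintype_fun_eq_card F
  obtain ⟨hcm, -⟩ := hiso.even_case hQ (lin_ne_one hg1) hr he (by rw [hfin]; exact hn)
  have hadd := hiso.finrank_add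
  have ho : orderOf g = r := by
    have := Fact.mk hr.prime
    exact orderOf_eq_prime hgr hg1
  have h3 := H906.Cov.ext_dvd hs hK (t := g) (hHK hgH)
    (by rw [ho]; exact (Nat.coprime_primes hr.prime hs).2 hrs) (Polynomial.X - 1)
  have h4 : LinearMap.ker (Polynomial.aeval (Matrix.toLin' (g : Matrix ι ι F)) (Polynomial.X - 1 : Polynomial F)) = fx (lin g) := by
    ext w
    rw [map_sub, Polynomial.aeval_X, map_one, LinearMap.mem_ker, LinearMap.sub_apply, sub_eq_zero]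
    exact H951.mem_fx.symm
  rw [h4] at h3
  have h5 : finrank F (fx (lin g)) = Fintype.card ι - e := by omega
  rwa [h5] at h3

/-- minus type, `n ≤ 4 e` -/
theorem ext_odd' (hQ : Nondeg Q) (hP : ¬ IsPlus Q) (hH : H ≤ Cfsg.isometryGroup F (⇑Q)) (hr : PP (Nat.card F) e r)
    (he : Odd e) (he3 : 3 ≤ e) (hn : Fintype.card ι ≤ 4 * e) (hdvd : r ∣ Nat.card H) {s : ℕ} (hs : s.Prime)
    {K : Subalgebra F (Matrix ι ι F)} (hK : IsFieldSubalgebra s K) (hHK : H ≤ subalgebraNormalizer K) :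
    r = s ∨ s ∣ e := by
  obtain ⟨g, hgH, hiso, hgr, hg1⟩ := exists_elt hH hr (by omega) hdvd
  by_cases hrs : r = s
  · exact Or.inl hrs
  right
  have hne : Nonempty ι := by
    by_contra h
    rw [not_nonempty_iff] at h
    exact hg1 (Subsingleton.elim _ _)
  have hcomm := comm_field hs hK (hHK hgH) hr.prime hrs hgr
  obtain ⟨hcm, W, hWcm, hW, hWs, hWd⟩ := odd_case' hiso hQ (lin_ne_one hg1) hr he (by
    rw [Module.finrank_fintype_fun_eq_card]; exact hn) hP
  rw [← hWd]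
  refine H906.Cov.dvd_finrank_of_invariant hK W fun k hk w hw => ?_
  have h1 := map_le hiso hQ hr he he3 hcm hWcm hW hWs hWd (J := Matrix.toLin' k) (fun v => by
    rw [lin, Matrix.toLin'_apply, Matrix.toLin'_apply, Matrix.toLin'_apply, Matrix.toLin'_apply,
      Matrix.mulVec_mulVec, Matrix.mulVec_mulVec, hcomm k hk]) w hw
  rwa [Matrix.toLin'_apply] at h1

end mat

variable {ι : Type} [Fintype ι] [DecidableEq ι] {F : Type v} [Field F] [Fintype F] {Q : QuadraticForm F (ι → F)}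
variable {G : Type u} [Group G] [Finite G] {T : Subgroup G} [T.Normal] {hG : Good Q} {eT : T ≃* POmega F (⇑Q)}
  {hI : Ind (eP hG eT)} {X Y : Subgroup G} {p f m N : ℕ}

/-- `r0` and `r2` do not both divide the order of a group normalising a field of degree dividing `2 m` -/
theorem not_r2 (h : Cx hI X Y p f m (2 * m)) (hm : 5 ≤ m) {r0 r2 : ℕ} (hr0 : PP (Nat.card F) (2 * m) r0)
    (hr2 : PP (Nat.card F) (2 * m - 2) r2) (hX0 : r0 ∣ Nat.card (X.subgroupOf T))
    (hX2 : r2 ∣ Nat.card (X.subgroupOf T))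
    (hLX : ∃ (s : ℕ) (K : Subalgebra F (Matrix ι ι F)), s.Prime ∧ s ∣ 2 * m ∧ IsFieldSubalgebra s K ∧
        preG eT X ≤ subalgebraNormalizer K) : False := by
  obtain ⟨s, K, hs, hsd, hK, hle⟩ := hLX
  have h0 : r0 ∣ Nat.card (preG eT X) := hX0.trans card_dvd_preG
  have h2 : r2 ∣ Nat.card (preG eT X) := hX2.trans card_dvd_preG
  have he2 : Even (2 * m - 2) := ⟨m - 1, by omega⟩
  have h3 := ext_even hG.nondeg preG_le hr2 he2 (by omega) (by rw [h.dim]; omega) h2 hs hK hle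
  rw [h.dim] at h3
  have hs2 : s = 2 := by
    rcases h3 with h3 | h3
    · have h4 := hr2.lt (by omega)
      rcases le_of_dvd_two_mul (by omega) hs hsd with h5 | h5 <;> omega
    · rw [show 2 * m - (2 * m - 2) = 2 by omega] at h3
      exact (Nat.prime_dvd_prime_iff_eq hs Nat.prime_two).1 h3
  subst hs2
  exact no_field2 hG.nondeg preG_le hr0 hr2 h.dim (even_two_mul m) he2 (by omega) (by omega)
    (by rw [show 2 * m / 2 = m by omega, show (2 * m - 2) / 2 = m - 1 by omega]; exact ⟨m - 1, by omega⟩) h0 h2 hK hle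

/-- (G) MINUS, memberships, `m` even -/
theorem minus_mem_even (h : Cx hI X Y p f m (2 * m)) (hm : 6 ≤ m) (hme : Even m) (hP : ¬ IsPlus Q)
    {r0 r2 r4 t t3 : ℕ} (hr0 : PP (Nat.card F) (2 * m) r0) (hr2 : PP (Nat.card F) (2 * m - 2) r2)
    (hr4 : PP (Nat.card F) (2 * m - 4) r4) (ht : PP (Nat.card F) (m - 1) t) (ht3 : PP (Nat.card F) (m - 3) t3)
    (hX0 : r0 ∣ Nat.card (X.subgroupOf T))
    (h2 : r2 ∣ Nat.card (X.subgroupOf T) ∨ r2 ∣ Nat.card (Y.subgroupOf T))
    (h4 : r4 ∣ Nat.card (X.subgroupOf T) ∨ r4 ∣ Nat.card (Y.subgroupOf T))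
    (h1 : t ∣ Nat.card (X.subgroupOf T) ∨ t ∣ Nat.card (Y.subgroupOf T))
    (h3 : t3 ∣ Nat.card (X.subgroupOf T) ∨ t3 ∣ Nat.card (Y.subgroupOf T))
    (hLX : (r2 ∣ Nat.card (X.subgroupOf T) ∨ t ∣ Nat.card (X.subgroupOf T) ∨ r4 ∣ Nat.card (X.subgroupOf T)) →
      ∃ (s : ℕ) (K : Subalgebra F (Matrix ι ι F)), s.Prime ∧ s ∣ 2 * m ∧ IsFieldSubalgebra s K ∧
        preG eT X ≤ subalgebraNormalizer K)
    (hLY : t ∣ Nat.card (Y.subgroupOf T) → r2 ∣ Nat.card (Y.subgroupOf T) → Red (preG eT Y) ∨ Ex2 (preG eT Y)) :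
    r2 ∣ Nat.card (Y.subgroupOf T) ∧ t ∣ Nat.card (Y.subgroupOf T) ∧
      (r4 ∣ Nat.card (Y.subgroupOf T) ∨ t3 ∣ Nat.card (Y.subgroupOf T)) ∧ Red (preG eT Y) := by
  obtain ⟨c, hc⟩ := hme
  have hodd1 : Odd (m - 1) := ⟨c - 1, by omega⟩
  have hodd3 : Odd (m - 3) := ⟨c - 2, by omega⟩
  have hte := two_mul_lt ht (by omega) hodd1
  have hY2 : r2 ∣ Nat.card (Y.subgroupOf T) := by
    rcases h2 with h2 | h2
    · exact (not_r2 h (by omega) hr0 hr2 hX0 h2 (hLX (Or.inl h2))).elim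
    · exact h2
  have hYt : t ∣ Nat.card (Y.subgroupOf T) := by
    rcases h1 with h1 | h1
    · exfalso
      obtain ⟨s, K, hs, hsd, hK, hle⟩ := hLX (Or.inr (Or.inl h1))
      rcases ext_odd hG.nondeg preG_le ht hodd1 (by omega) (by rw [h.dim]; omega) (h1.trans card_dvd_preG) hs hK hle with
        h5 | h5
      · rcases le_of_dvd_two_mul (by omega) hs hsd with h6 | h6 <;> omega
      · have h6 : s ∣ 2 := by
          have h7 : s ∣ 2 * m - 2 * (m - 1) := Nat.dvd_sub hsd (h5.mul_left 2)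
          rwa [show 2 * m - 2 * (m - 1) = 2 by omega] at h7
        have h7 := (Nat.prime_dvd_prime_iff_eq hs Nat.prime_two).1 h6
        subst h7
        obtain ⟨d, hd⟩ := hodd1
        obtain ⟨d', hd'⟩ := h5
        omega
    · exact h1
  refine ⟨hY2, hYt, ?_, ?_⟩
  · by_contra hcon
    push Not at hcon
    have hX4 := h4.resolve_right hcon.1
    have hX3 := h3.resolve_right hcon.2
    obtain ⟨s, K, hs, hsd, hK, hle⟩ := hLX (Or.inr (Or.inr hX4))
    have h5 := ext_even hG.nondeg preG_le hr4 ⟨m - 2, by omega⟩ (by omega) (by rw [h.dim]; omega)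
      (hX4.trans card_dvd_preG) hs hK hle
    rw [h.dim] at h5
    have hs2 : s = 2 := by
      rcases h5 with h5 | h5
      · have h4 := hr4.lt (by omega)
        rcases le_of_dvd_two_mul (by omega) hs hsd with h6 | h6 <;> omega
      · rw [show 2 * m - (2 * m - 4) = 2 ^ 2 by omega] at h5
        exact (Nat.prime_dvd_prime_iff_eq hs Nat.prime_two).1 (hs.dvd_of_dvd_pow h5)
    subst hs2
    have h6 := two_mul_lt ht3 (by omega) hodd3
    rcases ext_odd' hG.nondeg hP preG_le ht3 hodd3 (by omega) (by rw [h.dim]; omega) (hX3.trans card_dvd_preG) hs hK hle with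
      h7 | ⟨d, hd⟩
    · omega
    · obtain ⟨d', hd'⟩ := hodd3
      omega
  · rcases hLY hYt hY2 with h5 | ⟨K, hK, hle⟩
    · exact h5
    · exfalso
      rcases ext_odd hG.nondeg preG_le ht hodd1 (by omega) (by rw [h.dim]; omega) (hYt.trans card_dvd_preG)
        Nat.prime_two hK hle with h7 | ⟨d, hd⟩
      · omega
      · obtain ⟨d', hd'⟩ := hodd1
        omega

theorem minus_mem_odd (h : Cx hI X Y p f m (2 * m)) (hm : 5 ≤ m) (hmo : Odd m) (hP : ¬ IsPlus Q)
    {r0 r2 t : ℕ} (hr0 : PP (Nat.card F) (2 * m) r0) (hr2 : PP (Nat.card F) (2 * m - 2) r2) (ht : PP (Nat.card F) (m - 2) t)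
    (hX0 : r0 ∣ Nat.card (X.subgroupOf T))
    (h2 : r2 ∣ Nat.card (X.subgroupOf T) ∨ r2 ∣ Nat.card (Y.subgroupOf T))
    (h1 : t ∣ Nat.card (X.subgroupOf T) ∨ t ∣ Nat.card (Y.subgroupOf T))
    (hLX : (r2 ∣ Nat.card (X.subgroupOf T) ∨ t ∣ Nat.card (X.subgroupOf T)) →
      ∃ (s : ℕ) (K : Subalgebra F (Matrix ι ι F)), s.Prime ∧ s ∣ 2 * m ∧ IsFieldSubalgebra s K ∧
        preG eT X ≤ subalgebraNormalizer K)
    (hLY : t ∣ Nat.card (Y.subgroupOf T) → r2 ∣ Nat.card (Y.subgroupOf T) → Red (preG eT Y) ∨ Ex2 (preG eT Y)) :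
    r2 ∣ Nat.card (Y.subgroupOf T) ∧ t ∣ Nat.card (Y.subgroupOf T) ∧ Red (preG eT Y) := by
  obtain ⟨c, hc⟩ := hmo
  have hodd2 : Odd (m - 2) := ⟨c - 1, by omega⟩
  have hte := two_mul_lt ht (by omega) hodd2
  have hY2 : r2 ∣ Nat.card (Y.subgroupOf T) := by
    rcases h2 with h2 | h2
    · exact (not_r2 h (by omega) hr0 hr2 hX0 h2 (hLX (Or.inl h2))).elim
    · exact h2
  have hYt : t ∣ Nat.card (Y.subgroupOf T) := by
    rcases h1 with h1 | h1
    · exfalso
      obtain ⟨s, K, hs, hsd, hK, hle⟩ := hLX (Or.inr h1)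
      rcases ext_odd hG.nondeg preG_le ht hodd2 (by omega) (by rw [h.dim]; omega) (h1.trans card_dvd_preG) hs hK hle with
        h5 | h5
      · rcases le_of_dvd_two_mul (by omega) hs hsd with h6 | h6 <;> omega
      · have h6 : s ∣ 2 ^ 2 := by
          have h7 : s ∣ 2 * m - 2 * (m - 2) := Nat.dvd_sub hsd (h5.mul_left 2)
          rwa [show 2 * m - 2 * (m - 2) = 2 ^ 2 by omega] at h7
        have h7 := (Nat.prime_dvd_prime_iff_eq hs Nat.prime_two).1 (hs.dvd_of_dvd_pow h6)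
        subst h7
        obtain ⟨d, hd⟩ := hodd2
        obtain ⟨d', hd'⟩ := h5
        omega
    · exact h1
  refine ⟨hY2, hYt, ?_⟩
  rcases hLY hYt hY2 with h5 | ⟨K, hK, hle⟩
  · exact h5
  · exfalso
    rcases ext_odd hG.nondeg preG_le ht hodd2 (by omega) (by rw [h.dim]; omega) (hYt.trans card_dvd_preG)
      Nat.prime_two hK hle with h7 | ⟨d, hd⟩
    · omega
    · obtain ⟨d', hd'⟩ := hodd2
      omega

/-- (G') MINUS, `m` even: no singular point -/
theorem minus_even_no (h : Cx hI X Y p f m (2 * m)) (hm : 6 ≤ m) (hme : Even m) (hP : ¬ IsPlus Q)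
    {t : ℕ} (ht : PP (Nat.card F) (m - 1) t) (hYt : t ∣ Nat.card (Y.subgroupOf T))
    {S : Submodule F (ι → F)} {x : ι → F} (hx : Q x = 0) (hx0 : x ≠ 0) (hxS : x ∈ S) (hS2 : finrank F S ≤ 2)
    (hYS : preG eT Y ≤ subspaceStabilizer S) : False := by
  obtain ⟨c, hc⟩ := hme
  have hodd1 : Odd (m - 1) := ⟨c - 1, by omega⟩
  obtain ⟨g, hgH, hiso, hgr, hg1⟩ := exists_elt (preG_le (eT := eT) (X := Y)) ht (by omega) (hYt.trans card_dvd_preG)
  have hfin : finrank F (ι → F) = 2 * m := h.finrank_V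
  obtain ⟨hcm, hcP, -⟩ := hiso.odd_case hG.nondeg (lin_ne_one hg1) ht hodd1 (by rw [hfin]; omega)
  have hadd := hiso.finrank_add
  have h1 := hiso.isPlus_fx hG.nondeg (by rw [hfin]; exact even_two_mul m) (by rw [hcm]; exact even_two_mul _)
  have h2 : ¬ IsPlus (res Q (fx (lin g))) := fun h3 => hP (h1.2 ⟨fun _ => h3, fun _ => hcP⟩)
  have h3 : S ≤ fx (lin g) := hiso.le_fx ht (inv_of_mem (hYS hgH)) (by omega)
  exact hx0 (aniso_of_not_plus (by omega) h2 (h3 hxS) hx)

end Cfsg.Agent.H173.Rg
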